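import Mathlib.GroupTheory.OrderOfElement
import Mathlib.GroupTheory.GroupAction.ConjAct
import Mathlib.Tactic

/-!
A subgroup containing the centraliser of an involution and controlling its fusion: when a second involution has
its centraliser inside too, by dihedral subgroups, and when the subgroup is everything.
-/

set_option autoImplicit false

namespace Cfsg.Agent.TransvUniq

open Subgroup

variable {G : Type*} [Group G]

/-- Conjugate to the given element. -/
def ZT (z y : G) : Prop := ∃ g, g * z * g⁻¹ = y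

/-- The subgroup contains the centraliser and controls the fusion. -/
structure Ctrl (H : Subgroup G) (z : G) : Prop where
  zz : z * z = 1
  cent : ∀ g : G, g * z = z * g → g ∈ H
  fus : ∀ g : G, g * z * g⁻¹ ∈ H → ∃ h ∈ H, h * z * h⁻¹ = g * z * g⁻¹

theorem ZT.conj {z y : G} (hy : ZT z y) (g : G) : ZT z (g * y * g⁻¹) := by
  obtain ⟨a, rfl⟩ := hy
  exact ⟨g * a, by group⟩

theorem ZT.sq {z y : G} (hzz : z * z = 1) (hy : ZT z y) : y * y = 1 := by
  obtain ⟨a, rfl⟩ := hy
  rw [show a * z * a⁻¹ * (a * z * a⁻¹) = a * (z * z) * a⁻¹ by group, hzz, mul_one, mul_inv_cancel]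

namespace Ctrl

variable {H : Subgroup G} {z : G} (hH : Ctrl H z)

include hH

theorem mem : z ∈ H := hH.cent z rfl

theorem exists_conj {y : G} (hy : ZT z y) (hyH : y ∈ H) : ∃ h ∈ H, h * z * h⁻¹ = y := by
  obtain ⟨g, rfl⟩ := hy
  exact hH.fus g hyH

/-- The centralisers of all conjugates inside are inside. -/
theorem cent_le {y : G} (hy : ZT z y) (hyH : y ∈ H) {g : G} (hg : g * y = y * g) : g ∈ H := by
  obtain ⟨h, hh, rfl⟩ := hH.exists_conj hy hyH
  have hc : h⁻¹ * g * h ∈ H := hH.cent _ (by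
    calc h⁻¹ * g * h * z = h⁻¹ * (g * (h * z * h⁻¹)) * h := by group
      _ = h⁻¹ * (h * z * h⁻¹ * g) * h := by rw [hg]
      _ = z * (h⁻¹ * g * h) := by group)
  have := mul_mem (mul_mem hh hc) (inv_mem hh)
  rwa [show h * (h⁻¹ * g * h) * h⁻¹ = g by group] at this

/-- An element moving a conjugate inside back inside lies inside. -/
theorem mem_of_conj {y x : G} (hy : ZT z y) (hyH : y ∈ H) (hxy : x * y * x⁻¹ ∈ H) : x ∈ H := by
  obtain ⟨h₁, hh₁, e₁⟩ := hH.exists_conj hy hyH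
  obtain ⟨h₂, hh₂, e₂⟩ := hH.exists_conj (hy.conj x) hxy
  have hc : h₂⁻¹ * x * h₁ ∈ H := hH.cent _ (by
    calc h₂⁻¹ * x * h₁ * z = h₂⁻¹ * (x * (h₁ * z * h₁⁻¹) * x⁻¹) * (x * h₁) := by group
      _ = h₂⁻¹ * (h₂ * z * h₂⁻¹) * (x * h₁) := by rw [e₁, e₂]
      _ = z * (h₂⁻¹ * x * h₁) := by group)
  have := mul_mem (mul_mem hh₂ hc) (inv_mem hh₁)
  rwa [show h₂ * (h₂⁻¹ * x * h₁) * h₁⁻¹ = x by group] at this

/-- An element of two-power order inverted by a conjugate inside lies inside. -/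
theorem two_part {y : G} (hy : ZT z y) (hyH : y ∈ H) :
    ∀ (a : ℕ) {r : G}, r ^ 2 ^ a = 1 → y * r * y⁻¹ = r⁻¹ → r ∈ H := by
  intro a
  induction a with
  | zero => intro r h _; rw [pow_zero, pow_one] at h; exact h ▸ H.one_mem
  | succ a ih =>
    intro r h hinv
    have h2 : r ^ 2 ∈ H := by
      refine ih (by rw [← pow_mul, ← pow_succ']; exact h) ?_
      rw [← inv_pow, ← hinv, conj_pow]
    refine inv_mem_iff.1 (hH.mem_of_conj (x := r⁻¹) hy hyH ?_)
    rw [inv_inv, show r⁻¹ * y * r = r⁻¹ * (y * r * y⁻¹) * y by group, hinv]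
    rw [show r⁻¹ * r⁻¹ * y = (r ^ 2)⁻¹ * y by rw [pow_two, mul_inv_rev]]
    exact mul_mem (inv_mem h2) hyH

/-- The dihedral condition on two conjugates in the centraliser of another element. -/
theorem reach [Finite G] {u v v₂ x : G} (hv : ZT z v) (hvH : v ∈ H) (hvu : v * u = u * v)
    (hv₂ : ZT z v₂) (hv₂H : v₂ ∈ H) (hv₂u : v₂ * u = u * v₂) (huH : u ∈ H)
    (hxu : x * u = u * x) (hx : x ∉ H) :
    ∃ k ∈ H, k * u = u * k ∧ ∃ a : ℕ, (v * (k * v₂ * k⁻¹)) ^ 2 ^ a = 1 ∧
      ∀ i : ℕ, ¬ ZT z ((v * (k * v₂ * k⁻¹)) ^ i) ∧ ¬ ZT z ((v * (k * v₂ * k⁻¹)) ^ i * u) := by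
  set v' := x * v₂ * x⁻¹ with hv'
  set d := v * v' with hd
  have hvv : v * v = 1 := hv.sq hH.zz
  have hv'v' : v' * v' = 1 := (hv₂.conj x).sq hH.zz
  have hvi : v⁻¹ = v := inv_eq_of_mul_eq_one_right hvv
  have hv'i : v'⁻¹ = v' := inv_eq_of_mul_eq_one_right hv'v'
  have hcomm : ∀ {p : G}, p * u = u * p → p⁻¹ * u = u * p⁻¹ := fun h => (Commute.inv_left h).eq
  have hv'u : v' * u = u * v' :=
    (Commute.mul_left (Commute.mul_left (show Commute x u from hxu) hv₂u) (hcomm hxu)).eq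
  have hdu : Commute d u := Commute.mul_left (show Commute v u from hvu) hv'u
  obtain ⟨a, o, ho, hn⟩ := Nat.exists_eq_two_pow_mul_odd (orderOf_pos d).ne'
  obtain ⟨c, rfl⟩ := ho
  set g := d ^ (c + 1) with hg
  set v'' := g * v' * g⁻¹ with hv''
  have hvd : v * d * v⁻¹ = d⁻¹ := by rw [hd, mul_inv_rev, hvi, hv'i, ← mul_assoc, hvv, one_mul]
  have hv'g : v' * g⁻¹ = g * v' := by
    have : v' * d⁻¹ * v'⁻¹ = d := by
      rw [hd, mul_inv_rev, hvi, hv'i, ← mul_assoc v' v', hv'v', one_mul]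
    have h' := congrArg (fun t => t ^ (c + 1)) this
    simp only [conj_pow] at h'
    rw [hg, ← inv_pow, ← h']; group
  have hr : v * v'' = (d ^ (2 * c + 1))⁻¹ := by
    have e : v * g = g⁻¹ * v := by
      have h' := congrArg (fun t => t ^ (c + 1)) hvd
      simp only [conj_pow, inv_pow] at h'
      rw [hg, ← h']; group
    calc v * v'' = v * g * (v' * g⁻¹) := by rw [hv'']; group
      _ = g⁻¹ * v * (g * v') := by rw [e, hv'g]
      _ = g⁻¹ * (v * g) * v' := by group
      _ = g⁻¹ * (g⁻¹ * v) * v' := by rw [e]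
      _ = (g * g)⁻¹ * d := by rw [hd]; group
      _ = _ := by rw [hg, ← pow_add, show c + 1 + (c + 1) = 2 * c + 1 + 1 by omega, pow_succ]; group
  set r := v * v'' with hrdef
  have hra : r ^ 2 ^ a = 1 := by
    rw [hr, inv_pow, ← pow_mul, Nat.mul_comm, ← hn, pow_orderOf_eq_one, inv_one]
  have hinv : v * r * v⁻¹ = r⁻¹ := by
    have hv''v'' : v'' * v'' = 1 := ((hv₂.conj x).conj g).sq hH.zz
    rw [hrdef, mul_inv_rev, hvi, inv_eq_of_mul_eq_one_right hv''v'', ← mul_assoc, hvv, one_mul]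
  have hrH : r ∈ H := hH.two_part hv hvH a hra hinv
  have hv''H : v'' ∈ H := by
    have := mul_mem (inv_mem hvH) hrH
    rwa [hrdef, inv_mul_cancel_left] at this
  have hgu : g * u = u * g := ((hdu.pow_left (c + 1))).eq
  have hgxH : g * x ∈ H := hH.mem_of_conj hv₂ hv₂H (by
    rw [show g * x * v₂ * (g * x)⁻¹ = v'' by rw [hv'', hv']; group]; exact hv''H)
  have hgH : g ∉ H := fun hg' => hx (by
    have := mul_mem (inv_mem hg') hgxH
    rwa [inv_mul_cancel_left] at this)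
  have e'' : g * x * v₂ * (g * x)⁻¹ = v'' := by rw [hv'', hv']; group
  refine ⟨g * x, hgxH, (Commute.mul_left (show Commute g u from hgu) hxu).eq, a, ?_, fun i => ?_⟩
  · rw [e'']; exact hra
  · rw [e'', ← hrdef]
    have hgr : Commute g (r ^ i) := by
      rw [hg, hr]
      exact ((Commute.pow_pow_self d _ _).inv_right).pow_right i
    refine ⟨fun hw => hgH (hH.cent_le hw (pow_mem hrH i) hgr.eq), fun hw => hgH (hH.cent_le hw
      (mul_mem (pow_mem hrH i) huH) (hgr.mul_right hgu).eq)⟩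

/-- When the centraliser of a second involution is inside as well as those of all others, nothing is outside. -/
theorem eq_top [Finite G] {u : G} (huH : u ∈ H) (hu2 : u * u = 1) (hu1 : u ≠ 1) (hu : ¬ ZT z u)
    (hC : ∀ y ∈ H, y * y = 1 → y ≠ 1 → ¬ ZT z y → ∀ g : G, g * y = y * g → g ∈ H) : H = ⊤ := by
  refine eq_top_iff.2 fun g _ => ?_
  have hin : g * z * g⁻¹ ∈ H := by
    by_contra hout
    set z' := g * z * g⁻¹ with hz'
    have hz'2 : z' * z' = 1 := (ZT.sq hH.zz ⟨g, rfl⟩)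
    set d := u * z' with hd
    have hui : u⁻¹ = u := inv_eq_of_mul_eq_one_right hu2
    have hz'i : z'⁻¹ = z' := inv_eq_of_mul_eq_one_right hz'2
    have hud : u * d * u⁻¹ = d⁻¹ := by rw [hd, mul_inv_rev, hui, hz'i, ← mul_assoc, hu2, one_mul]
    rcases Nat.even_or_odd (orderOf d) with ⟨m, hm⟩ | ⟨m, hm⟩
    · set w := d ^ m with hw
      have hw2 : w * w = 1 := by rw [hw, ← pow_add, ← hm, pow_orderOf_eq_one]
      have hwi : w⁻¹ = w := inv_eq_of_mul_eq_one_right hw2
      have hw1 : w ≠ 1 := fun e => by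
        have h0 : 0 < orderOf d := orderOf_pos d
        have := Nat.le_of_dvd (by omega) (orderOf_dvd_of_pow_eq_one e)
        omega
      have huw : Commute u w := by
        have h' : u * w * u⁻¹ = w := by rw [hw, ← conj_pow, hud, inv_pow, ← hw, hwi]
        exact mul_inv_eq_iff_eq_mul.1 h'
      have hwH : w ∈ H := hC u huH hu2 hu1 hu w huw.eq.symm
      have hz'w : Commute z' w := by
        have : z' = u * d := by rw [hd, ← mul_assoc, hu2, one_mul]
        rw [this]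
        exact huw.mul_left (Commute.self_pow d m)
      by_cases hzw : ZT z w
      · exact hout (hH.cent_le hzw hwH hz'w.eq)
      · exact hout (hC w hwH hw2 hw1 hzw z' hz'w.eq)
    · refine hu ⟨d ^ (m + 1) * g, ?_⟩
      rw [show d ^ (m + 1) * g * z * (d ^ (m + 1) * g)⁻¹ = d ^ (m + 1) * z' * (d ^ (m + 1))⁻¹ by rw [hz']; group]
      have hzd : z' * (d ^ (m + 1))⁻¹ = d ^ (m + 1) * z' := by
        have h' : z' * d⁻¹ * z'⁻¹ = d := by
          rw [hd, mul_inv_rev, hui, hz'i, ← mul_assoc z' z', hz'2, one_mul]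
        have h'' := congrArg (fun t => t ^ (m + 1)) h'
        simp only [conj_pow] at h''
        rw [← inv_pow, ← h'']; group
      rw [mul_assoc, hzd, ← mul_assoc, ← pow_add, show m + 1 + (m + 1) = 2 * m + 1 + 1 by omega, pow_succ, ← hm,
        pow_orderOf_eq_one, one_mul, hd, mul_assoc, hz'2, mul_one]
  obtain ⟨h, hh, e⟩ := hH.fus g hin
  have hc : h⁻¹ * g ∈ H := hH.cent _ (by
    calc h⁻¹ * g * z = h⁻¹ * (g * z * g⁻¹) * g := by group
      _ = h⁻¹ * (h * z * h⁻¹) * g := by rw [e]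
      _ = z * (h⁻¹ * g) := by group)
  have := mul_mem hh hc
  rwa [mul_inv_cancel_left] at this

end Ctrl

end Cfsg.Agent.TransvUniq
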